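import Groth.Agent.L23.Epi
import Groth.Agent.L24.Hensel.PointChart

/-!
# Colimits of schemes which are colimits in algebraic spaces
-/

universe w v u

open CategoryTheory CategoryTheory.Limits AlgebraicGeometry Opposite AlgSp

set_option autoImplicit false
set_option linter.style.haveILetI false
set_option linter.unusedSectionVars false
set_option backward.isDefEq.respectTransparency false
set_option backward.isDefEq.respectTransparency.types false

noncomputable section

namespace Groth.L09.SpColimit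

open Groth.L23

variable {S : Scheme.{u}}

theorem exists_separated_atlas {X : Sp S} (hX : IsAlgSpace X) :
    ∃ (U : Over S) (b : (yon S).obj U ⟶ X), IsSeparated U.hom ∧ RepWith @Etale b ∧ RepWith @Surjective b := by
  obtain ⟨U₀, b₀, he, hs⟩ := hX.atlas
  let A := fun i => U₀.left.affineCover.X i
  haveI : ∀ i, IsAffine (A i) := fun i => inferInstanceAs (IsAffine (U₀.left.affineCover.X i))
  haveI : (∐ A).IsSeparated := Groth.L24.Hensel.isSeparated_sigma_affine A
  let π : (∐ A) ⟶ U₀.left := Sigma.desc U₀.left.affineCover.f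
  haveI : Etale π := IsZariskiLocalAtSource.sigmaDesc fun i => inferInstance
  haveI : Surjective π := ⟨fun t => by
    obtain ⟨i, y, hy⟩ := U₀.left.affineCover.exists_eq t
    refine ⟨Sigma.ι A i y, ?_⟩
    rw [← Scheme.Hom.comp_apply, Sigma.ι_desc]
    exact hy⟩
  let U : Over S := Over.mk (π ≫ U₀.hom)
  let p : U ⟶ U₀ := Over.homMk π rfl
  refine ⟨U, (yon S).map p ≫ b₀, inferInstanceAs (IsSeparated (π ≫ U₀.hom)), ?_, ?_⟩
  · exact repWith_comp ((repWith_yon_map_iff _ _).2 (inferInstanceAs (Etale π))) he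
  · exact repWith_comp ((repWith_yon_map_iff _ _).2 (inferInstanceAs (Surjective π))) hs

/-- A morphism whose pairing with a separated scheme is a monomorphism is separated. -/
theorem isSeparated_of_pair {P T U : Over S} [IsSeparated U.hom] (f : P ⟶ U) (g : P ⟶ T)
    (h : ∀ {Z : Over S} (a a' : Z ⟶ P), a ≫ f = a' ≫ f → a ≫ g = a' ≫ g → a = a') :
    IsSeparated g.left := by
  let m : P.left ⟶ Limits.pullback U.hom T.hom := pullback.lift f.left g.left (by rw [Over.w f, Over.w g])
  haveI : Mono m := ⟨fun {Z} a a' e => by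
    have e₁ : a ≫ f.left = a' ≫ f.left := by simpa [m] using e =≫ pullback.fst _ _
    have e₂ : a ≫ g.left = a' ≫ g.left := by simpa [m] using e =≫ pullback.snd _ _
    let Z' : Over S := Over.mk (a ≫ P.hom)
    let b : Z' ⟶ P := Over.homMk a rfl
    let b' : Z' ⟶ P := Over.homMk a' (by
      show a' ≫ P.hom = a ≫ P.hom
      rw [← Over.w f, ← Category.assoc, ← e₁, Category.assoc])
    exact congrArg CommaMorphism.left (h b b' (Over.OverMorphism.ext e₁) (Over.OverMorphism.ext e₂))⟩
  rw [show g.left = m ≫ pullback.snd _ _ from (pullback.lift_snd _ _ _).symm]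
  infer_instance

variable {I : Type v} [Category.{w} I] {D : I ⥤ Over S} {c : Cocone D}

section

variable (D c) {K : Over S} (k : K ⟶ c.pt)

/-- The base change of a cocone. -/
def bcFun : I ⥤ Over S where
  obj i := pullback k (c.ι.app i)
  map {i j} φ := pullback.map _ _ _ _ (𝟙 K) (D.map φ) (𝟙 _) (by simp) (by simp [c.w])
  map_id i := by apply pullback.hom_ext <;> simp
  map_comp φ ψ := by apply pullback.hom_ext <;> simp

/-- Its projection. -/
def bcNat : bcFun D c k ⟶ D where
  app i := pullback.snd k (c.ι.app i)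
  naturality i j φ := pullback.lift_snd _ _ _

/-- Its cocone. -/
def bcCocone : Cocone (bcFun D c k) where
  pt := K
  ι :=
    { app := fun i => pullback.fst k (c.ι.app i)
      naturality := fun i j φ => by
        exact pullback.lift_fst _ _ _ }

end

variable (h₃ : ∀ (D' : I ⥤ Over S) (α : D' ⟶ D) (c' : Cocone D') (a : c'.pt ⟶ c.pt), Etale a.left →
      (∀ i, IsPullback (c'.ι.app i) (α.app i) a (c.ι.app i)) → Nonempty (IsColimit ((Over.forget S).mapCocone c')))

include h₃

theorem hom_ext_bc {K W : Over S} (k : K ⟶ c.pt) [Etale k.left] (f g : K ⟶ W)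
    (h : ∀ i, pullback.fst k (c.ι.app i) ≫ f = pullback.fst k (c.ι.app i) ≫ g) : f = g := by
  obtain ⟨hcol⟩ := h₃ (bcFun D c k) (bcNat D c k) (bcCocone D c k) k inferInstance
    (fun i => IsPullback.of_hasPullback _ _)
  exact Over.OverMorphism.ext (hcol.hom_ext fun i => congrArg CommaMorphism.left (h i))

/-- Points of an atlas agreeing in the space on all members of the diagram agree in the space. -/
theorem glue_eq {X : Sp S} {U : Over S} {b : (yon S).obj U ⟶ X} (hb : Representable b) {K : Over S}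
    (k : K ⟶ c.pt) [Etale k.left] (r₁ r₂ : K ⟶ U)
    (h : ∀ i, (yon S).map (pullback.fst k (c.ι.app i) ≫ r₁) ≫ b = (yon S).map (pullback.fst k (c.ι.app i) ≫ r₂) ≫ b) :
    (yon S).map r₁ ≫ b = (yon S).map r₂ ≫ b := by
  let R := hb.pullback b
  let q₁ : R ⟶ U := hb.fst' b
  let q₂ : R ⟶ U := hb.snd b
  have sq : IsPullback ((yon S).map q₁) ((yon S).map q₂) b b := hb.isPullback' b
  obtain ⟨hcol⟩ := h₃ (bcFun D c k) (bcNat D c k) (bcCocone D c k) k inferInstance
    (fun i => IsPullback.of_hasPullback _ _)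
  let m := fun i => hb.lift ((yon S).map (pullback.fst k (c.ι.app i) ≫ r₁)) (pullback.fst k (c.ι.app i) ≫ r₂) (h i)
  have hm₁ : ∀ i, m i ≫ q₁ = pullback.fst k (c.ι.app i) ≫ r₁ := fun i => (yon S).map_injective (by
    rw [Functor.map_comp, Functor.relativelyRepresentable.map_fst']
    exact hb.lift_fst _ _ _)
  have hm₂ : ∀ i, m i ≫ q₂ = pullback.fst k (c.ι.app i) ≫ r₂ := fun i => hb.lift_snd _ _ _
  let s : Cocone (bcFun D c k ⋙ Over.forget S) :=
    { pt := R.left
      ι :=
        { app := fun i => (m i).left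
          naturality := fun i j φ => by
            show ((bcFun D c k).map φ).left ≫ (m j).left = (m i).left ≫ 𝟙 _
            rw [Category.comp_id, ← Over.comp_left]
            congr 1
            refine (yon S).map_injective (sq.hom_ext ?_ ?_)
            · rw [← Functor.map_comp, ← Functor.map_comp, Category.assoc, hm₁, hm₁, ← Category.assoc]
              congr 2
              exact (bcCocone D c k).w φ
            · rw [← Functor.map_comp, ← Functor.map_comp, Category.assoc, hm₂, hm₂, ← Category.assoc]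
              congr 2
              exact (bcCocone D c k).w φ } }
  let μ : K.left ⟶ R.left := hcol.desc s
  have hμ : ∀ i, (pullback.fst k (c.ι.app i)).left ≫ μ = (m i).left := fun i => hcol.fac s i
  have hμw : μ ≫ R.hom = K.hom := hcol.hom_ext fun i => by
    show (pullback.fst k (c.ι.app i)).left ≫ μ ≫ R.hom = (pullback.fst k (c.ι.app i)).left ≫ K.hom
    rw [← Category.assoc, hμ, Over.w, Over.w]
  let μ' : K ⟶ R := Over.homMk μ hμw
  have e : ∀ i, pullback.fst k (c.ι.app i) ≫ μ' = m i := fun i => Over.OverMorphism.ext (hμ i)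
  have e₁ : μ' ≫ q₁ = r₁ := hom_ext_bc h₃ k _ _ fun i => by rw [← Category.assoc, e, hm₁]
  have e₂ : μ' ≫ q₂ = r₂ := hom_ext_bc h₃ k _ _ fun i => by rw [← Category.assoc, e, hm₂]
  rw [← e₁, ← e₂, Functor.map_comp, Functor.map_comp, Category.assoc, Category.assoc, sq.w]

theorem hom_ext_space {X : Sp S} (hX : IsAlgSpace X) (f g : (yon S).obj c.pt ⟶ X)
    (h : ∀ i, (yon S).map (c.ι.app i) ≫ f = (yon S).map (c.ι.app i) ≫ g) : f = g := by
  obtain ⟨U, b, he, hs⟩ := hX.atlas
  let K₁ := he.1.pullback f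
  let t₁ : K₁ ⟶ c.pt := he.1.snd f
  have ht₁e : Etale t₁.left := repWith_prop he (he.1.isPullback f)
  have ht₁s : Surjective t₁.left := repWith_prop hs (he.1.isPullback f)
  let K := he.1.pullback ((yon S).map t₁ ≫ g)
  let t₂ : K ⟶ K₁ := he.1.snd ((yon S).map t₁ ≫ g)
  have ht₂e : Etale t₂.left := repWith_prop he (he.1.isPullback _)
  have ht₂s : Surjective t₂.left := repWith_prop hs (he.1.isPullback _)
  haveI : Etale (t₂ ≫ t₁).left := inferInstanceAs (Etale (t₂.left ≫ t₁.left))
  haveI : Surjective (t₂ ≫ t₁).left := inferInstanceAs (Surjective (t₂.left ≫ t₁.left))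
  have e₁ : (yon S).map (t₂ ≫ he.1.fst' f) ≫ b = (yon S).map (t₂ ≫ t₁) ≫ f := by
    rw [Functor.map_comp, Functor.map_comp, Category.assoc, Category.assoc]
    congr 1
    exact (he.1.isPullback' f).w
  have e₂ : (yon S).map (he.1.fst' ((yon S).map t₁ ≫ g)) ≫ b = (yon S).map (t₂ ≫ t₁) ≫ g :=
    (he.1.isPullback' _).w.trans (Functor.map_comp_assoc _ _ _ _).symm
  haveI : Epi ((yon S).map (t₂ ≫ t₁)) := epi_of_repWith _
    ((repWith_yon_map_iff _ _).2 inferInstance) ((repWith_yon_map_iff _ _).2 inferInstance)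
  rw [← cancel_epi ((yon S).map (t₂ ≫ t₁)), ← e₁, ← e₂]
  refine glue_eq h₃ he.1 (t₂ ≫ t₁) _ _ fun i => ?_
  rw [Functor.map_comp (yon S) (pullback.fst (t₂ ≫ t₁) (c.ι.app i)),
    Functor.map_comp (yon S) (pullback.fst (t₂ ≫ t₁) (c.ι.app i)) (he.1.fst' _), Category.assoc, Category.assoc, e₁, e₂,
    ← Functor.map_comp_assoc, ← Functor.map_comp_assoc, pullback.condition, Functor.map_comp,
    Category.assoc, Category.assoc, h i]

variable (h₂ : ∀ x : ↥c.pt.left, ∃ (i : I) (y : ↥(D.obj i).left), (c.ι.app i).left y = x)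
  (h₄ : ∀ (D' : I ⥤ Over S) (α : D' ⟶ D), NatTrans.Equifibered α → (∀ i, Etale (α.app i).left) →
      (∀ i, IsSeparated (α.app i).left) →
      ∃ (c' : Cocone D') (a : c'.pt ⟶ c.pt), Etale a.left ∧ ∀ i, IsPullback (c'.ι.app i) (α.app i) a (c.ι.app i))

include h₂ h₄

theorem exists_desc {X : Sp S} (hX : IsAlgSpace X) (g : ∀ i, (yon S).obj (D.obj i) ⟶ X)
    (hg : ∀ {i j} (φ : i ⟶ j), (yon S).map (D.map φ) ≫ g j = g i) :
    ∃ f : (yon S).obj c.pt ⟶ X, ∀ i, (yon S).map (c.ι.app i) ≫ f = g i := by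
  obtain ⟨U, b, hU, he, hs⟩ := exists_separated_atlas hX
  haveI := hU
  let P := fun i => he.1.pullback (g i)
  let u : ∀ i, P i ⟶ U := fun i => he.1.fst' (g i)
  let a' : ∀ i, P i ⟶ D.obj i := fun i => he.1.snd (g i)
  have sq : ∀ i, IsPullback ((yon S).map (u i)) ((yon S).map (a' i)) b (g i) := fun i => he.1.isPullback' (g i)
  let t : ∀ {i j} (φ : i ⟶ j), P i ⟶ P j := fun {i j} φ => he.1.lift ((yon S).map (u i)) (a' i ≫ D.map φ)
    (by rw [Functor.map_comp, Category.assoc, hg]; exact (sq i).w)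
  have ht₁ : ∀ {i j} (φ : i ⟶ j), t φ ≫ u j = u i := fun {i j} φ => (yon S).map_injective (by
    rw [Functor.map_comp, Functor.relativelyRepresentable.map_fst']
    exact he.1.lift_fst _ _ _)
  have ht₂ : ∀ {i j} (φ : i ⟶ j), t φ ≫ a' j = a' i ≫ D.map φ := fun φ => he.1.lift_snd _ _ _
  have hext : ∀ {Z : Over S} {i : I} (p p' : Z ⟶ P i), p ≫ u i = p' ≫ u i → p ≫ a' i = p' ≫ a' i → p = p' :=
    fun {Z i} p p' e e' => (yon S).map_injective ((sq i).hom_ext
      (by rw [← Functor.map_comp, ← Functor.map_comp, e]) (by rw [← Functor.map_comp, ← Functor.map_comp, e']))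
  let D' : I ⥤ Over S :=
    { obj := P
      map := fun φ => t φ
      map_id := fun i => hext _ _ (by rw [ht₁, Category.id_comp]) (by rw [ht₂, D.map_id, Category.comp_id, Category.id_comp])
      map_comp := fun φ ψ => hext _ _ (by rw [ht₁, Category.assoc, ht₁, ht₁])
        (by rw [ht₂, Category.assoc, ht₂, reassoc_of% (ht₂ φ), D.map_comp]) }
  let α : D' ⟶ D := { app := a', naturality := fun i j φ => ht₂ φ }
  have hα : NatTrans.Equifibered α := fun {i j} φ => by
    refine IsPullback.of_map (yon S) (ht₂ φ) ?_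
    refine IsPullback.of_right ?_ (by rw [← Functor.map_comp, ← Functor.map_comp]; exact congrArg _ (ht₂ φ)) (sq j).flip.flip
    rw [← Functor.map_comp, ht₁, hg]
    exact sq i
  have hαe : ∀ i, Etale (α.app i).left := fun i => repWith_prop he (sq i)
  obtain ⟨c', a, ha, hsq⟩ := h₄ D' α hα hαe (fun i => isSeparated_of_pair (u i) (a' i) (fun p p' => hext p p'))
  haveI := ha
  obtain ⟨hcol⟩ := h₃ D' α c' a ha hsq
  let s : Cocone (D' ⋙ Over.forget S) :=
    { pt := U.left
      ι :=
        { app := fun i => (u i).left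
          naturality := fun i j φ => by
            show (t φ).left ≫ (u j).left = (u i).left ≫ 𝟙 _
            rw [Category.comp_id, ← Over.comp_left, ht₁] } }
  let Φ₀ : c'.pt.left ⟶ U.left := hcol.desc s
  have hΦ₀ : ∀ i, (c'.ι.app i).left ≫ Φ₀ = (u i).left := fun i => hcol.fac s i
  let Φ : c'.pt ⟶ U := Over.homMk Φ₀ (hcol.hom_ext fun i => by
    show (c'.ι.app i).left ≫ Φ₀ ≫ U.hom = (c'.ι.app i).left ≫ c'.pt.hom
    rw [← Category.assoc, hΦ₀, Over.w]
    exact (Over.w (c'.ι.app i)).symm)
  have hΦ : ∀ i, c'.ι.app i ≫ Φ = u i := fun i => Over.OverMorphism.ext (hΦ₀ i)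
  haveI : Surjective a.left := ⟨fun x => by
    obtain ⟨i, y, hy⟩ := h₂ x
    obtain ⟨z, hz⟩ := (repWith_prop hs (sq i)).surj y
    refine ⟨(c'.ι.app i).left z, ?_⟩
    rw [← hy, ← hz]
    exact congrArg (fun m : D'.obj i ⟶ c.pt => m.left z) (hsq i).w⟩
  haveI : Epi ((yon S).map a) := epi_of_repWith _
    ((repWith_yon_map_iff _ _).2 inferInstance) ((repWith_yon_map_iff _ _).2 inferInstance)
  have sqK := IsPullback.of_hasPullback a a
  let k := pullback.fst a a ≫ a
  haveI : Etale k.left := by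
    haveI : Etale (pullback.fst a a).left := MorphismProperty.of_isPullback (sqK.flip.map (Over.forget S)) ha
    exact inferInstanceAs (Etale ((pullback.fst a a).left ≫ a.left))
  have heq : (yon S).map (pullback.fst a a ≫ Φ) ≫ b = (yon S).map (pullback.snd a a ≫ Φ) ≫ b := by
    refine glue_eq h₃ he.1 k _ _ fun i => ?_
    have key : ∀ r : pullback a a ⟶ c'.pt, r ≫ a = k →
        (yon S).map (pullback.fst k (c.ι.app i) ≫ r ≫ Φ) ≫ b = (yon S).map (pullback.snd k (c.ι.app i)) ≫ g i := by
      intro r hr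
      let e := (hsq i).lift (pullback.fst k (c.ι.app i) ≫ r) (pullback.snd k (c.ι.app i))
        (by rw [Category.assoc, hr]; exact pullback.condition)
      rw [← Category.assoc, ← (hsq i).lift_fst (pullback.fst k (c.ι.app i) ≫ r) (pullback.snd k (c.ι.app i))
        (by rw [Category.assoc, hr]; exact pullback.condition), Category.assoc, hΦ, Functor.map_comp, Category.assoc,
        (sq i).w, ← Functor.map_comp_assoc]
      congr 2
      exact (hsq i).lift_snd _ _ _
    rw [key _ rfl, key _ (pullback.condition.symm)]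
  obtain ⟨hcof⟩ := nonempty_isColimit_cofork ((yon S).map a) (sqK.map (yon S))
  obtain ⟨f, hf⟩ : ∃ f : (yon S).obj c.pt ⟶ X, (yon S).map a ≫ f = (yon S).map Φ ≫ b :=
    ⟨_, (Cofork.IsColimit.desc' hcof ((yon S).map Φ ≫ b) (by simpa using heq)).2⟩
  refine ⟨f, fun i => ?_⟩
  haveI : Epi ((yon S).map (α.app i)) := epi_of_repWith _
    ((repWith_yon_map_iff _ _).2 (hαe i)) ((repWith_yon_map_iff _ _).2 (repWith_prop hs (sq i)))
  rw [← cancel_epi ((yon S).map (α.app i)), ← Functor.map_comp_assoc, ← (hsq i).w, Functor.map_comp, Category.assoc, hf,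
    ← Functor.map_comp_assoc, hΦ]
  exact (sq i).w

theorem nonempty_isColimit_ofScheme : Nonempty (IsColimit ((AlgSp.ofScheme S).mapCocone c)) := by
  have key : ∀ s : Cocone (D ⋙ AlgSp.ofScheme S), ∃ f : (AlgSp.ofScheme S).obj c.pt ⟶ s.pt,
      ∀ i, (AlgSp.ofScheme S).map (c.ι.app i) ≫ f = s.ι.app i := by
    intro s
    obtain ⟨f, hf⟩ := exists_desc h₃ h₂ h₄ s.pt.property (fun i => (s.ι.app i).hom)
      (fun φ => congrArg (fun m => m.hom) (s.w φ))
    exact ⟨ObjectProperty.homMk f, fun i => ObjectProperty.hom_ext _ (hf i)⟩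
  choose f hf using key
  exact ⟨{ desc := f
           fac := fun s i => hf s i
           uniq := fun s m hm => ObjectProperty.hom_ext _ (hom_ext_space h₃ s.pt.property _ _ fun i => by
             exact (congrArg (fun m => m.hom) (hm i)).trans (congrArg (fun m => m.hom) (hf s i)).symm) }⟩

end Groth.L09.SpColimit
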