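import Groth.Agent.L09.SpColimit.Main
import Groth.Agent.L23.MorCalc
import Groth.Agent.L23.StLocal

/-!
# Colimits among separated spaces which are colimits among all spaces
-/

universe w v u

open CategoryTheory CategoryTheory.Limits AlgebraicGeometry Opposite AlgSp

set_option autoImplicit false
set_option linter.style.haveILetI false
set_option linter.unusedSectionVars false
set_option backward.isDefEq.respectTransparency false
set_option backward.isDefEq.respectTransparency.types false

noncomputable section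

namespace Groth.L09.SpColimit

open Groth.L23 Groth.L23.StLocal

variable {S : Scheme.{u}}

/-- A morphism from a separated scheme to an algebraic space is separated. -/
theorem isSeparatedMor_from_yon {X : Sp S} (hX : IsAlgSpace X) {T : Over S} [IsSeparated T.hom]
    (f : (yon S).obj T ⟶ X) : IsSeparatedMor f := by
  refine (isSeparatedMor_iff (hX.representable_from_yon f)).2
    (repWith_of_snd (hX.representable_from_yon f) fun V ξ => ?_)
  let hf := hX.representable_from_yon f
  refine isSeparated_of_pair (hf.fst' ξ) (hf.snd ξ) fun p p' e₁ e₂ => (yon S).map_injective ?_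
  exact (hf.isPullback' ξ).hom_ext (by rw [← Functor.map_comp, ← Functor.map_comp, e₁])
    (by rw [← Functor.map_comp, ← Functor.map_comp, e₂])

/-- The scheme of the self product of a separated atlas is separated. -/
theorem isSeparated_of_mono_pair {R U : Over S} [IsSeparated U.hom] (q₁ q₂ : R ⟶ U)
    (h : ∀ {Z : Over S} (a a' : Z ⟶ R), a ≫ q₁ = a' ≫ q₁ → a ≫ q₂ = a' ≫ q₂ → a = a') : IsSeparated R.hom := by
  haveI : IsSeparated q₂.left := isSeparated_of_pair q₁ q₂ h
  rw [← Over.w q₂]
  infer_instance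

theorem epi_of_etale {F G : Sp S} (hF : IsAlgSpace F) (hG : IsAlgSpace G) {a : F ⟶ G} (he : IsEtaleMor a)
    (hs : Function.Surjective (Points.map a)) : Epi a := by
  obtain ⟨V, v, hv, hvs⟩ := hF.atlas
  have h := he v hv
  haveI : Epi (v ≫ a) := epi_of_repWith _ h (repWith_surjective_of_map (hG.representable_from_yon _) (by
    intro y
    obtain ⟨x, rfl⟩ := hs y
    obtain ⟨t, rfl⟩ := surjective_map_of_repWith hvs x
    exact ⟨t, Points.map_comp v a t⟩))
  exact epi_of_epi v a

variable {B : AlgSp.Space S} {P : ObjectProperty (Over B)}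
  (hP : ∀ T : Over B, P T ↔ AlgSp.IsSeparatedMor T.hom.hom)

/-- The sheaf underlying an object over `B`. -/
abbrev sh (T : P.FullSubcategory) : Sp S := T.obj.left.obj

/-- Its structure map. -/
abbrev str (T : P.FullSubcategory) : sh T ⟶ B.obj := T.obj.hom.hom

/-- The map of sheaves underlying a morphism over `B`. -/
abbrev mor {T T' : P.FullSubcategory} (f : T ⟶ T') : sh T ⟶ sh T' := f.hom.left.hom

theorem sp (T : P.FullSubcategory) : IsAlgSpace (sh T) := T.obj.left.property

theorem mor_w {T T' : P.FullSubcategory} (f : T ⟶ T') : mor f ≫ str T' = str T :=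
  congrArg (fun m => m.hom) (Over.w f.hom)

theorem mor_ext {T T' : P.FullSubcategory} {f g : T ⟶ T'} (h : mor f = mor g) : f = g :=
  ObjectProperty.hom_ext _ (Over.OverMorphism.ext (ObjectProperty.hom_ext _ h))

theorem mor_comp {T T' T'' : P.FullSubcategory} (f : T ⟶ T') (g : T' ⟶ T'') : mor (f ≫ g) = mor f ≫ mor g := rfl

theorem mor_id (T : P.FullSubcategory) : mor (𝟙 T) = 𝟙 (sh T) := rfl

include hP

theorem str_separated (T : P.FullSubcategory) : IsSeparatedMor (str T) := (hP T.obj).1 T.property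

/-- Objects from separated morphisms of spaces. -/
def mkObj {Z : Sp S} (hZ : IsAlgSpace Z) (z : Z ⟶ B.obj) (h : IsSeparatedMor z) : P.FullSubcategory :=
  ⟨Over.mk (Y := (⟨Z, hZ⟩ : AlgSp.Space S)) (ObjectProperty.homMk z), (hP _).2 h⟩

omit hP in
/-- Morphisms over `B`. -/
def mkHom {T T' : P.FullSubcategory} (f : sh T ⟶ sh T') (w : f ≫ str T' = str T) : T ⟶ T' :=
  ObjectProperty.homMk (Over.homMk (ObjectProperty.homMk f) (ObjectProperty.hom_ext _ w))

omit hP in
@[simp]
theorem mor_mkHom {T T' : P.FullSubcategory} (f : sh T ⟶ sh T') (w : f ≫ str T' = str T) :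
    mor (mkHom f w) = f := rfl

variable {I : Type v} [Category.{w} I] {D : I ⥤ P.FullSubcategory} {c : Cocone D}

section

variable (D c) {K : P.FullSubcategory} (k : K ⟶ c.pt) (hks : IsSeparatedMor (mor k))

include hks

theorem bc_sep (i : I) : IsSeparatedMor (pullback.snd (mor k) (mor (c.ι.app i)) ≫ str (D.obj i)) :=
  separated_comp (separated_of_isPullback (IsPullback.of_hasPullback _ _) hks) (str_separated hP _)

/-- The members of the base change. -/
def bcObj (i : I) : P.FullSubcategory :=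
  mkObj hP (isAlgSpace_of_isPullback (sp c.pt).diag (sp K) (sp (D.obj i))
    (IsPullback.of_hasPullback (mor k) (mor (c.ι.app i)))) _ (bc_sep hP D c k hks i)

omit hP hks in
/-- The maps of the members. -/
def bcMap {i j : I} (φ : i ⟶ j) : pullback (mor k) (mor (c.ι.app i)) ⟶ pullback (mor k) (mor (c.ι.app j)) :=
  pullback.lift (pullback.fst _ _) (pullback.snd _ _ ≫ mor (D.map φ))
    (by rw [Category.assoc, ← mor_comp, c.w]; exact pullback.condition)

omit hP hks in
@[reassoc (attr := simp)]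
theorem bcMap_fst' {i j : I} (φ : i ⟶ j) : bcMap D c k φ ≫ pullback.fst _ _ = pullback.fst _ _ :=
  pullback.lift_fst _ _ _

omit hP hks in
@[reassoc (attr := simp)]
theorem bcMap_snd' {i j : I} (φ : i ⟶ j) : bcMap D c k φ ≫ pullback.snd _ _ = pullback.snd _ _ ≫ mor (D.map φ) :=
  pullback.lift_snd _ _ _

/-- The base change of a cocone. -/
def bcSep : I ⥤ P.FullSubcategory where
  obj := bcObj hP D c k hks
  map {i j} φ := mkHom (T := bcObj hP D c k hks i) (T' := bcObj hP D c k hks j) (bcMap D c k φ) (by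
    refine (bcMap_snd'_assoc D c k φ _).trans ?_
    rw [mor_w]
    rfl)
  map_id i := mor_ext (pullback.hom_ext ((bcMap_fst' D c k _).trans (Category.id_comp _).symm)
    ((bcMap_snd' D c k _).trans (by rw [D.map_id, mor_id, Category.comp_id]; exact (Category.id_comp _).symm)))
  map_comp {i j l} φ ψ := mor_ext (pullback.hom_ext
    ((bcMap_fst' D c k _).trans (by rw [mor_comp, mor_mkHom, mor_mkHom, Category.assoc, bcMap_fst', bcMap_fst']))
    ((bcMap_snd' D c k _).trans (by
      rw [mor_comp, mor_mkHom, mor_mkHom, Category.assoc, bcMap_snd', bcMap_snd'_assoc, D.map_comp, mor_comp])))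

/-- Its projection. -/
def bcSepNat : bcSep hP D c k hks ⟶ D where
  app i := mkHom (pullback.snd _ _) rfl
  naturality i j φ := mor_ext (bcMap_snd' D c k φ)

/-- Its cocone. -/
def bcSepCocone : Cocone (bcSep hP D c k hks) where
  pt := K
  ι :=
    { app := fun i => mkHom (pullback.fst _ _) (by
        show pullback.fst _ _ ≫ str K = pullback.snd _ _ ≫ str _
        rw [← mor_w k, ← mor_w (c.ι.app i), pullback.condition_assoc]
        rfl)
      naturality := fun i j φ => mor_ext ((bcMap_fst' D c k φ).trans (Category.comp_id _).symm) }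

end

variable (h₄ : ∀ (D' : I ⥤ P.FullSubcategory) (α : D' ⟶ D) (c' : Cocone D') (a : c'.pt ⟶ c.pt),
      AlgSp.IsEtaleMor a.hom.left.hom → AlgSp.IsSeparatedMor a.hom.left.hom →
      (∀ i, IsPullback (c'.ι.app i).hom.left.hom (α.app i).hom.left.hom a.hom.left.hom (c.ι.app i).hom.left.hom) →
        Nonempty (IsColimit c'))

include h₄

theorem glue_sep {X : AlgSp.Space S} {xB : X.obj ⟶ B.obj} {U : Over S} [IsSeparated U.hom]
    {b : (yon S).obj U ⟶ X.obj} (hb : Representable b) {K : P.FullSubcategory} (k : K ⟶ c.pt)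
    (hke : IsEtaleMor (mor k)) (hks : IsSeparatedMor (mor k)) (r₁ r₂ : sh K ⟶ (yon S).obj U)
    (w₁ : r₁ ≫ b ≫ xB = str K) (w₂ : r₂ ≫ b ≫ xB = str K)
    (h : ∀ i, pullback.fst (mor k) (mor (c.ι.app i)) ≫ r₁ ≫ b = pullback.fst (mor k) (mor (c.ι.app i)) ≫ r₂ ≫ b) :
    r₁ ≫ b = r₂ ≫ b := by
  let R := hb.pullback b
  have sq : IsPullback ((yon S).map (hb.fst' b)) ((yon S).map (hb.snd b)) b b := hb.isPullback' b
  haveI : IsSeparated R.hom := isSeparated_of_mono_pair (hb.fst' b) (hb.snd b) fun a a' e₁ e₂ =>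
    (yon S).map_injective (sq.hom_ext (by rw [← Functor.map_comp, ← Functor.map_comp, e₁])
      (by rw [← Functor.map_comp, ← Functor.map_comp, e₂]))
  let RB : P.FullSubcategory := mkObj hP (IsAlgSpace.yon_obj R) ((yon S).map (hb.fst' b) ≫ b ≫ xB)
    (isSeparatedMor_from_yon B.property _)
  let UB : P.FullSubcategory := mkObj hP (IsAlgSpace.yon_obj U) (b ≫ xB) (isSeparatedMor_from_yon B.property _)
  obtain ⟨hcol⟩ := h₄ _ (bcSepNat hP D c k hks) (bcSepCocone hP D c k hks) k hke hks
    (fun i => IsPullback.of_hasPullback _ _)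
  let m := fun i => sq.lift (pullback.fst (mor k) (mor (c.ι.app i)) ≫ r₁) (pullback.fst (mor k) (mor (c.ι.app i)) ≫ r₂)
    (by rw [Category.assoc, Category.assoc]; exact h i)
  let s : Cocone (bcSep hP D c k hks) :=
    { pt := RB
      ι :=
        { app := fun i => mkHom (m i) (by
            show m i ≫ (yon S).map (hb.fst' b) ≫ b ≫ xB = pullback.snd _ _ ≫ str _
            simp only [m]
            rw [IsPullback.lift_fst_assoc, Category.assoc, w₁, ← mor_w k, ← mor_w (c.ι.app i),
              pullback.condition_assoc]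
            rfl)
          naturality := fun i j φ => mor_ext (by
            show bcMap D c k φ ≫ m j = m i ≫ 𝟙 _
            apply sq.hom_ext <;> simp [m]) } }
  let μ := hcol.desc s
  have e₁ : mor μ ≫ (yon S).map (hb.fst' b) = r₁ := by
    refine congrArg mor (hcol.hom_ext (f := μ ≫ mkHom (T' := UB) ((yon S).map (hb.fst' b)) rfl)
      (f' := mkHom (T' := UB) r₁ w₁) fun i => ?_)
    rw [hcol.fac_assoc]
    exact mor_ext (sq.lift_fst _ _ _)
  have e₂ : mor μ ≫ (yon S).map (hb.snd b) = r₂ := by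
    refine congrArg mor (hcol.hom_ext (f := μ ≫ mkHom (T' := UB) ((yon S).map (hb.snd b))
      ((reassoc_of% sq.w) xB).symm) (f' := mkHom (T' := UB) r₂ w₂) fun i => ?_)
    rw [hcol.fac_assoc]
    exact mor_ext (sq.lift_snd _ _ _)
  rw [← e₁, ← e₂, Category.assoc, Category.assoc, sq.w]

theorem hom_ext_sep {X : AlgSp.Space S} {xB : X.obj ⟶ B.obj} (f g : sh c.pt ⟶ X.obj)
    (wf : f ≫ xB = str c.pt) (wg : g ≫ xB = str c.pt)
    (h : ∀ i, mor (c.ι.app i) ≫ f = mor (c.ι.app i) ≫ g) : f = g := by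
  obtain ⟨U, b, hU, he, hs⟩ := exists_separated_atlas X.property
  haveI := hU
  let p₁ := pullback.snd b f
  have sq₁ := IsPullback.of_hasPullback b f
  have hK₁ : IsAlgSpace (pullback b f) :=
    isAlgSpace_of_isPullback X.property.diag (IsAlgSpace.yon_obj U) (sp c.pt) sq₁
  let p₂ := pullback.snd b (p₁ ≫ g)
  have sq₂ := IsPullback.of_hasPullback b (p₁ ≫ g)
  have hK₂ : IsAlgSpace (pullback b (p₁ ≫ g)) :=
    isAlgSpace_of_isPullback X.property.diag (IsAlgSpace.yon_obj U) hK₁ sq₂
  have hbs : IsSeparatedMor b := isSeparatedMor_from_yon X.property b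
  have hb : IsEtaleMor b := isEtaleMor_of_repWith (IsAlgSpace.yon_obj U) X.property he
  have hps : IsSeparatedMor (p₂ ≫ p₁) :=
    separated_comp (separated_of_isPullback sq₂ hbs) (separated_of_isPullback sq₁ hbs)
  have hpe : IsEtaleMor (p₂ ≫ p₁) := isEtaleMor_comp
    (isEtaleMor_snd_of_isPullback (IsAlgSpace.yon_obj U) X.property hK₂ hK₁ sq₂ hb)
    (isEtaleMor_snd_of_isPullback (IsAlgSpace.yon_obj U) X.property hK₁ (sp c.pt) sq₁ hb)
  haveI : Epi (p₂ ≫ p₁) := epi_of_etale hK₂ (sp c.pt) hpe fun x => by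
    obtain ⟨y, rfl⟩ := surjective_snd_of_isPullback sq₁ (surjective_map_of_repWith hs) x
    obtain ⟨z, rfl⟩ := surjective_snd_of_isPullback sq₂ (surjective_map_of_repWith hs) y
    exact ⟨z, Points.map_comp p₂ p₁ z⟩
  let K : P.FullSubcategory := mkObj hP hK₂ ((p₂ ≫ p₁) ≫ str c.pt) (separated_comp hps (str_separated hP _))
  have e₁ : (p₂ ≫ pullback.fst b f) ≫ b = (p₂ ≫ p₁) ≫ f := by
    rw [Category.assoc, Category.assoc, pullback.condition]
  have e₂ : pullback.fst b (p₁ ≫ g) ≫ b = (p₂ ≫ p₁) ≫ g := by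
    rw [pullback.condition, Category.assoc]
  rw [← cancel_epi (p₂ ≫ p₁), ← e₁, ← e₂]
  refine glue_sep hP h₄ (X := X) (xB := xB) he.1 (mkHom (T := K) (p₂ ≫ p₁) rfl) hpe hps _ _ ?_ ?_ fun i => ?_
  · rw [← Category.assoc, e₁, Category.assoc, wf]; rfl
  · rw [← Category.assoc, e₂, Category.assoc, wg]; rfl
  · rw [e₁, e₂]
    let k : K ⟶ c.pt := mkHom (T := K) (p₂ ≫ p₁) rfl
    have hh : (pullback.fst (mor k) (mor (c.ι.app i)) ≫ mor k) ≫ f = (pullback.fst (mor k) (mor (c.ι.app i)) ≫ mor k) ≫ g := by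
      rw [pullback.condition, Category.assoc, Category.assoc, h i]
    exact (Category.assoc _ _ _).symm.trans (hh.trans (Category.assoc _ _ _))

variable (h₃ : ∀ x : AlgSp.Points c.pt.obj.left.obj, ∃ (i : I) (y : AlgSp.Points (D.obj i).obj.left.obj),
      AlgSp.Points.map (c.ι.app i).hom.left.hom y = x)
  (h₅ : ∀ (D' : I ⥤ P.FullSubcategory) (α : D' ⟶ D),
      (∀ ⦃i j : I⦄ (g : i ⟶ j), IsPullback (D'.map g).hom.left.hom (α.app i).hom.left.hom (α.app j).hom.left.hom
        (D.map g).hom.left.hom) →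
      (∀ i, AlgSp.IsEtaleMor (α.app i).hom.left.hom) → (∀ i, AlgSp.IsSeparatedMor (α.app i).hom.left.hom) →
        ∃ (c' : Cocone D') (a : c'.pt ⟶ c.pt), AlgSp.IsEtaleMor a.hom.left.hom ∧ AlgSp.IsSeparatedMor a.hom.left.hom ∧
          ∀ i, IsPullback (c'.ι.app i).hom.left.hom (α.app i).hom.left.hom a.hom.left.hom (c.ι.app i).hom.left.hom)

include h₃ h₅

theorem exists_desc_sep (X : AlgSp.Space S) (xB : X.obj ⟶ B.obj) (g : ∀ i, sh (D.obj i) ⟶ X.obj)
    (hgB : ∀ i, g i ≫ xB = str (D.obj i)) (hg : ∀ {i j} (φ : i ⟶ j), mor (D.map φ) ≫ g j = g i) :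
    ∃ f : sh c.pt ⟶ X.obj, f ≫ xB = str c.pt ∧ ∀ i, mor (c.ι.app i) ≫ f = g i := by
  obtain ⟨U, b, hU, he, hs⟩ := exists_separated_atlas X.property
  haveI := hU
  have hbs : IsSeparatedMor b := isSeparatedMor_from_yon X.property b
  have hb : IsEtaleMor b := isEtaleMor_of_repWith (IsAlgSpace.yon_obj U) X.property he
  have sq := fun i => IsPullback.of_hasPullback b (g i)
  have hsp : ∀ i, IsAlgSpace (pullback b (g i)) := fun i =>
    isAlgSpace_of_isPullback X.property.diag (IsAlgSpace.yon_obj U) (sp _) (sq i)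
  have hsep : ∀ i, IsSeparatedMor (pullback.snd b (g i)) := fun i => separated_of_isPullback (sq i) hbs
  let mp : ∀ {i j : I} (φ : i ⟶ j), pullback b (g i) ⟶ pullback b (g j) := fun {i j} φ =>
    pullback.lift (pullback.fst _ _) (pullback.snd _ _ ≫ mor (D.map φ))
      (by rw [Category.assoc, hg φ]; exact pullback.condition)
  have mp₁ : ∀ {i j : I} (φ : i ⟶ j), mp φ ≫ pullback.fst _ _ = pullback.fst _ _ := fun φ => pullback.lift_fst _ _ _
  have mp₂ : ∀ {i j : I} (φ : i ⟶ j), mp φ ≫ pullback.snd _ _ = pullback.snd _ _ ≫ mor (D.map φ) :=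
    fun φ => pullback.lift_snd _ _ _
  let D' : I ⥤ P.FullSubcategory :=
    { obj := fun i => mkObj hP (hsp i) (pullback.snd b (g i) ≫ str (D.obj i))
        (separated_comp (hsep i) (str_separated hP _))
      map := fun {i j} φ => mkHom (mp φ) (by
        refine (reassoc_of% (mp₂ φ)) (str (D.obj j)) |>.trans ?_
        rw [mor_w]
        rfl)
      map_id := fun i => mor_ext (pullback.hom_ext ((mp₁ _).trans (Category.id_comp _).symm)
        ((mp₂ _).trans (by rw [D.map_id, mor_id, Category.comp_id]; exact (Category.id_comp _).symm)))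
      map_comp := fun φ ψ => mor_ext (pullback.hom_ext
        ((mp₁ _).trans (by rw [mor_comp, mor_mkHom, mor_mkHom, Category.assoc, mp₁, mp₁]))
        ((mp₂ _).trans (by rw [mor_comp, mor_mkHom, mor_mkHom, Category.assoc, mp₂, reassoc_of% (mp₂ φ), D.map_comp, mor_comp]))) }
  let α : D' ⟶ D :=
    { app := fun i => mkHom (pullback.snd _ _) rfl
      naturality := fun i j φ => mor_ext (mp₂ φ) }
  obtain ⟨c', a, hae, has, hsq⟩ := h₅ D' α (fun i j φ => by
      refine IsPullback.of_right ?_ (mp₂ φ) (sq j)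
      show IsPullback (mp φ ≫ pullback.fst _ _) (pullback.snd _ _) b (mor (D.map φ) ≫ g j)
      rw [mp₁, hg φ]
      exact sq i)
    (fun i => isEtaleMor_snd_of_isPullback (IsAlgSpace.yon_obj U) X.property (hsp i) (sp _) (sq i) hb) hsep
  obtain ⟨hcol⟩ := h₄ D' α c' a hae has hsq
  let UB : P.FullSubcategory := mkObj hP (IsAlgSpace.yon_obj U) (b ≫ xB) (isSeparatedMor_from_yon B.property _)
  let s : Cocone D' :=
    { pt := UB
      ι :=
        { app := fun i => mkHom (pullback.fst b (g i)) (by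
            show pullback.fst _ _ ≫ b ≫ xB = pullback.snd _ _ ≫ str _
            rw [pullback.condition_assoc, hgB])
          naturality := fun i j φ => mor_ext ((mp₁ φ).trans (Category.comp_id _).symm) } }
  let Φ := hcol.desc s
  have hΦ : ∀ i, mor (c'.ι.app i) ≫ mor Φ = pullback.fst b (g i) := fun i => congrArg mor (hcol.fac s i)
  haveI : Epi (mor a) := epi_of_etale (sp c'.pt) (sp c.pt) hae fun x => by
    obtain ⟨i, y, rfl⟩ := h₃ x
    obtain ⟨z, rfl⟩ := surjective_snd_of_isPullback (sq i) (surjective_map_of_repWith hs) y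
    refine ⟨Points.map (mor (c'.ι.app i)) z, ?_⟩
    rw [← Points.map_comp, (hsq i).w]
    exact Points.map_comp _ _ _
  have sqK := IsPullback.of_hasPullback (mor a) (mor a)
  have hK : IsAlgSpace (pullback (mor a) (mor a)) :=
    isAlgSpace_of_isPullback (sp c.pt).diag (sp c'.pt) (sp c'.pt) sqK
  have hks : IsSeparatedMor (pullback.fst (mor a) (mor a) ≫ mor a) :=
    separated_comp (separated_of_isPullback sqK.flip has) has
  let K : P.FullSubcategory := mkObj hP hK ((pullback.fst (mor a) (mor a) ≫ mor a) ≫ str c.pt)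
    (separated_comp hks (str_separated hP _))
  let k : K ⟶ c.pt := mkHom (pullback.fst (mor a) (mor a) ≫ mor a) rfl
  have hke : IsEtaleMor (mor k) := isEtaleMor_comp
    (isEtaleMor_snd_of_isPullback (sp c'.pt) (sp c.pt) hK (sp c'.pt) sqK.flip hae) hae
  have hW : ∀ r : sh K ⟶ sh c'.pt, r ≫ mor a = mor k → (r ≫ mor Φ) ≫ b ≫ xB = str K := fun r hr => by
    rw [Category.assoc, show mor Φ ≫ b ≫ xB = str c'.pt from mor_w Φ, ← mor_w a, ← Category.assoc, hr]
    rfl
  have key : ∀ (r : sh K ⟶ sh c'.pt), r ≫ mor a = mor k → ∀ i,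
      pullback.fst (mor k) (mor (c.ι.app i)) ≫ r ≫ mor Φ ≫ b = pullback.snd (mor k) (mor (c.ι.app i)) ≫ g i := by
    intro r hr i
    let e := (hsq i).lift (pullback.fst (mor k) (mor (c.ι.app i)) ≫ r) (pullback.snd (mor k) (mor (c.ι.app i)))
      (by rw [Category.assoc, hr]; exact pullback.condition)
    have h₁ : e ≫ mor (c'.ι.app i) = pullback.fst (mor k) (mor (c.ι.app i)) ≫ r := (hsq i).lift_fst _ _ _
    have h₂ : e ≫ pullback.snd b (g i) = pullback.snd (mor k) (mor (c.ι.app i)) := (hsq i).lift_snd _ _ _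
    rw [← reassoc_of% h₁, reassoc_of% (hΦ i), ← h₂, Category.assoc, pullback.condition]
  have heq : pullback.fst (mor a) (mor a) ≫ mor Φ ≫ b = pullback.snd (mor a) (mor a) ≫ mor Φ ≫ b := by
    have := glue_sep hP h₄ (X := X) (xB := xB) he.1 k hke hks (pullback.fst (mor a) (mor a) ≫ mor Φ)
      (pullback.snd (mor a) (mor a) ≫ mor Φ) (hW _ rfl) (hW _ pullback.condition.symm) fun i => by
        rw [Category.assoc, Category.assoc, key _ rfl, key _ pullback.condition.symm]
    simpa using this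
  obtain ⟨hcof⟩ := nonempty_isColimit_cofork (mor a) sqK
  obtain ⟨f, hf⟩ : ∃ f : sh c.pt ⟶ X.obj, mor a ≫ f = mor Φ ≫ b :=
    ⟨_, (Cofork.IsColimit.desc' hcof (mor Φ ≫ b) heq).2⟩
  refine ⟨f, ?_, fun i => ?_⟩
  · rw [← cancel_epi (mor a), reassoc_of% hf, mor_w a]
    exact mor_w Φ
  · haveI : Epi (pullback.snd b (g i)) := epi_of_etale (hsp i) (sp _)
      (isEtaleMor_snd_of_isPullback (IsAlgSpace.yon_obj U) X.property (hsp i) (sp _) (sq i) hb)
      (surjective_snd_of_isPullback (sq i) (surjective_map_of_repWith hs))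
    rw [← cancel_epi (pullback.snd b (g i)), ← pullback.condition, ← reassoc_of% (hΦ i), ← hf,
      ← Category.assoc (mor (c'.ι.app i)), ← Category.assoc (pullback.snd b (g i))]
    exact congrArg (· ≫ f) (hsq i).w.symm

theorem nonempty_isColimit_all : Nonempty (IsColimit (P.ι.mapCocone c)) := by
  have key : ∀ s : Cocone (D ⋙ P.ι), ∃ f : sh c.pt ⟶ s.pt.left.obj,
      f ≫ s.pt.hom.hom = str c.pt ∧ ∀ i, mor (c.ι.app i) ≫ f = (s.ι.app i).left.hom := fun s =>
    exists_desc_sep hP h₄ h₃ h₅ s.pt.left s.pt.hom.hom (fun i => (s.ι.app i).left.hom)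
      (fun i => congrArg (fun m => m.hom) (Over.w (s.ι.app i)))
      (fun φ => congrArg (fun m => m.left.hom) (s.w φ))
  choose f hfB hf using key
  exact ⟨{ desc := fun s => Over.homMk (ObjectProperty.homMk (f s)) (ObjectProperty.hom_ext _ (hfB s))
           fac := fun s i => Over.OverMorphism.ext (ObjectProperty.hom_ext _ (hf s i))
           uniq := fun s m hm => Over.OverMorphism.ext (ObjectProperty.hom_ext _
             (hom_ext_sep hP h₄ (X := s.pt.left) (xB := s.pt.hom.hom) m.left.hom (f s)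
               (congrArg (fun e => e.hom) (Over.w m)) (hfB s) fun i =>
               (congrArg (fun e => e.left.hom) (hm i)).trans (hf s i).symm)) }⟩

end Groth.L09.SpColimit
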